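import Cfsg.Agent.Lib.Helper9.AschU.Defs
import Cfsg.Agent.Lib.Helper12.Asch.C1

set_option autoImplicit false

/-! # Piece UC1 : the `r`-group `R` lies in `Nh` -/

namespace Cfsg.Agent.Lib.Helper9.AschU

open Cfsg Cfsg.Geo Matrix Cfsg.Agent.Lib.Helper13.Asch Cfsg.Agent.Lib.Helper12.Asch
open scoped Kronecker MatrixGroups

variable {ι : Type} [Fintype ι] [DecidableEq ι] {F : Type*} [Field F]

/-- UC1 -/
theorem exists_RData_le [Finite F] (hι : 2 ≤ Fintype.card ι) {H Nh : Subgroup (GL ι F)} {r : ℕ}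
    (h : SympData H Nh r) : ∃ R, RData H R r ∧ R ≤ Nh := by
  classical
  have hcyc : IsCyclic (scalars ι F) := isCyclic_scalars
  obtain ⟨R, hR, hdec⟩ := rdata_abs (scalars ι F) H Nh scalars_central h.prime h.sc_le h.nrm
    h.comm h.pow h.min (not_comm_of_env_top hι h.envTop)
  have hRN : R ≤ Nh := fun x hx => ((hR x).1 hx).1
  refine ⟨R, ⟨h.prime, ?_, ?_, ?_, ?_, ?_, ?_⟩, hRN⟩
  · intro g hg x hx
    obtain ⟨hx1, hx2⟩ := (hR x).1 hx
    exact (hR _).2 ⟨h.nrm g hg x hx1, by rw [conj_pow, hx2]; group⟩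
  · intro x hx y hy
    exact h.comm x (hRN hx) y (hRN hy)
  · rw [eq_top_iff, ← h.envTop]
    unfold env
    apply Algebra.adjoin_le
    rintro _ ⟨x, hx, rfl⟩
    obtain ⟨y, hy, s, hs, rfl⟩ := hdec x hx
    obtain ⟨c, hc⟩ := (mem_scalars_iff s).1 hs
    show ((y * s : GL ι F) : Matrix ι ι F) ∈ Algebra.adjoin F (matrixSet R)
    rw [Units.val_mul, hc, Matrix.mul_smul, mul_one]
    have hyR : (y : Matrix ι ι F) ∈ matrixSet R := ⟨y, hy, rfl⟩
    exact Subalgebra.smul_mem _ (Algebra.subset_adjoin hyR) _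
  · intro x hx
    exact ((hR x).1 hx).2
  · intro g hg hgk
    exact (hR g).2 ⟨h.sc_le hg, hgk⟩
  · intro M h1 h2 h3
    have h4 : M ⊔ scalars ι F = scalars ι F ∨ M ⊔ scalars ι F = Nh := by
      apply h.min _ le_sup_right (sup_le (h2.trans hRN) h.sc_le)
      intro g hg x hx
      obtain ⟨m, hm, s, hs, rfl⟩ := Subgroup.mem_sup_of_normal_right.1 hx
      have : g * (m * s) * g⁻¹ = (g * m * g⁻¹) * (g * s * g⁻¹) := by group
      rw [this]
      exact Subgroup.mul_mem_sup (h3 g hg m hm) (scalars_normal.conj_mem s hs g)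
    rcases h4 with h4 | h4
    · left
      apply le_antisymm _ h1
      exact le_inf h2 (h4 ▸ le_sup_left)
    · right
      apply le_antisymm h2
      intro x hx
      have hx' : x ∈ M ⊔ scalars ι F := h4 ▸ hRN hx
      obtain ⟨m, hm, s, hs, rfl⟩ := Subgroup.mem_sup_of_normal_right.1 hx'
      have hsR : s ∈ R := by
        have := R.mul_mem (R.inv_mem (h2 hm)) hx
        rwa [inv_mul_cancel_left] at this
      exact M.mul_mem hm (h1 ⟨hsR, hs⟩)


end Cfsg.Agent.Lib.Helper9.AschU
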